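import Cfsg.Agent.OddHalf.Small.PSp43
import Cfsg.Agent.OddHalf.D6.QThree.Facts
import Cfsg.Agent.LieClassical.SympCount

-- merged: Cfsg.Agent.KFacts.PSpFourThree.Model
section

/-!
# The centraliser of a 2-central involution of `PSp₄(3)`: a computable model (helper931)

`PE`: pairs of `2 × 2` matrices over `F3` and a sign bit; `PE.mat`: the symplectic matrix; `PE.el x : PSp 2 F3`.
Every element of `PSp 2 F3` commuting with `z = π m3` is `x.el` (`exists_pe`), and `x.el = y.el` is decided by `beqs`.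
-/

set_option autoImplicit false
set_option linter.style.haveILetI false

namespace Cfsg.Agent.KFacts.PSpFourThree

open Matrix Subgroup Cfsg
open Cfsg.Agent.Lib.FieldThree (F3)
open Cfsg.Agent.SmallSimple.S1000.Order25920PSp (Mat Sp π π_mul π_one π_eq m1 m2 m3 m4)
open Cfsg.Agent.OddHalf.Small.PSp43 (bm bm_mul bm_inj one_eq m3_eq exists_bm det_of_mem inv_eq_of_mul eq_or_of_π_eq
  comm_or m4_inv m4_inv' m43 Pm m4_eq J_eq bm_transpose)

/-! ### Matrices of degree two -/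

/-- `2 × 2` matrices over `F3` -/
structure M2 where
  a : F3
  b : F3
  c : F3
  d : F3
  deriving DecidableEq

namespace M2

/-- product -/
def mul (x y : M2) : M2 :=
  ⟨x.a * y.a + x.b * y.c, x.a * y.b + x.b * y.d, x.c * y.a + x.d * y.c, x.c * y.b + x.d * y.d⟩
/-- unit -/
def one : M2 := ⟨1, 0, 0, 1⟩
/-- minus -/
def neg (x : M2) : M2 := ⟨-x.a, -x.b, -x.c, -x.d⟩
/-- adjugate -/
def inv (x : M2) : M2 := ⟨x.d, -x.b, -x.c, x.a⟩
/-- determinant -/
def det (x : M2) : F3 := x.a * x.d - x.b * x.c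

end M2

/-- equality in `F3` -/
def eq3 : F3 → F3 → Bool
  | .o, .o => true
  | .i, .i => true
  | .m, .m => true
  | _, _ => false

theorem eq3_iff : ∀ x y : F3, eq3 x y = true ↔ x = y := by decide

/-- equality of matrices -/
def M2.beq (x y : M2) : Bool :=
  and (eq3 x.a y.a) (and (eq3 x.b y.b) (and (eq3 x.c y.c) (eq3 x.d y.d)))

theorem M2.beq_iff (x y : M2) : x.beq y = true ↔ x = y := by
  obtain ⟨a, b, c, d⟩ := x
  obtain ⟨a', b', c', d'⟩ := y
  show and (eq3 a a') (and (eq3 b b') (and (eq3 c c') (eq3 d d'))) = true ↔ _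
  rw [Bool.and_eq_true, Bool.and_eq_true, Bool.and_eq_true, eq3_iff, eq3_iff, eq3_iff, eq3_iff, M2.mk.injEq]

/-! ### The group `SL₂(3) wr 2` -/

/-- elements of `SL₂(3) wr 2` -/
structure PE where
  x : M2
  y : M2
  s : Bool
  deriving DecidableEq

namespace PE

/-- product -/
def mul (p q : PE) : PE :=
  Bool.rec ⟨p.x.mul q.x, p.y.mul q.y, q.s⟩ ⟨p.x.mul q.y, p.y.mul q.x, not q.s⟩ p.s
/-- inverse -/
def inv (p : PE) : PE := Bool.rec ⟨p.x.inv, p.y.inv, false⟩ ⟨p.y.inv, p.x.inv, true⟩ p.s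
/-- minus -/
def neg (p : PE) : PE := ⟨p.x.neg, p.y.neg, p.s⟩
/-- unit -/
def one : PE := ⟨M2.one, M2.one, false⟩
/-- equality of the bits -/
def eqb (a b : Bool) : Bool := Bool.rec (not b) b a
/-- equality -/
def beq (p q : PE) : Bool := and (p.x.beq q.x) (and (p.y.beq q.y) (eqb p.s q.s))
/-- equality up to sign -/
def beqs (p q : PE) : Bool := or (p.beq q) (p.beq q.neg)

/-- determinants one -/
def Ok (p : PE) : Prop := p.x.det = 1 ∧ p.y.det = 1

theorem eqb_iff : ∀ a b : Bool, eqb a b = true ↔ a = b := by decide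

theorem beq_iff (p q : PE) : p.beq q = true ↔ p = q := by
  obtain ⟨x, y, s⟩ := p
  obtain ⟨x', y', s'⟩ := q
  show and (x.beq x') (and (y.beq y') (eqb s s')) = true ↔ _
  rw [Bool.and_eq_true, Bool.and_eq_true, M2.beq_iff, M2.beq_iff, eqb_iff, PE.mk.injEq]

/-- the swap matrix -/
noncomputable def sw (s : Bool) : Mat := if s then (m4 : Mat) else 1

theorem sf : sw false = 1 := by unfold sw; rw [if_neg Bool.false_ne_true]
theorem st : sw true = (m4 : Mat) := by unfold sw; rw [if_pos rfl]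

/-- the block matrix -/
def bmm (x y : M2) : Mat := bm ![x.a, y.a] ![x.b, y.b] ![x.c, y.c] ![x.d, y.d]

/-- the symplectic matrix -/
noncomputable def mat (p : PE) : Mat := bmm p.x p.y * sw p.s

theorem m4_sq : (m4 : Mat) * m4 = 1 := by decide +kernel

theorem vec_ext {f g : Fin 2 → F3} (h0 : f 0 = g 0) (h1 : f 1 = g 1) : f = g := by
  funext i
  fin_cases i
  · exact h0
  · exact h1

theorem bmm_mul (x y x' y' : M2) : bmm x y * bmm x' y' = bmm (x.mul x') (y.mul y') := by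
  unfold bmm
  rw [bm_mul]
  congr 1 <;> apply vec_ext <;> rfl

theorem m4_bmm (x y : M2) : (m4 : Mat) * bmm x y = bmm y x * m4 := by
  unfold bmm
  have h := Cfsg.Agent.OddHalf.Small.PSp43.m4_conj ![x.a, y.a] ![x.b, y.b] ![x.c, y.c] ![x.d, y.d]
  have h2 : (m4 : Mat) * bm ![x.a, y.a] ![x.b, y.b] ![x.c, y.c] ![x.d, y.d] =
      ((m4 : Mat) * bm ![x.a, y.a] ![x.b, y.b] ![x.c, y.c] ![x.d, y.d] * m4) * m4 := by
    rw [mul_assoc _ (m4 : Mat) (m4 : Mat), m4_sq, mul_one]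
  rw [h2, h]
  congr 1

theorem mat_mul (p q : PE) : (p.mul q).mat = p.mat * q.mat := by
  obtain ⟨x, y, s⟩ := p
  obtain ⟨x', y', s'⟩ := q
  cases s
  · show bmm (x.mul x') (y.mul y') * sw s' = bmm x y * sw false * (bmm x' y' * sw s')
    rw [sf, mul_one, ← mul_assoc, bmm_mul]
  · show bmm (x.mul y') (y.mul x') * sw (!s') = bmm x y * sw true * (bmm x' y' * sw s')
    have h2 : (m4 : Mat) * sw s' = sw (!s') := by
      cases s'
      · rw [sf, mul_one]; exact st.symm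
      · rw [st, m4_sq]; exact sf.symm
    rw [st, mul_assoc, ← mul_assoc (m4 : Mat), m4_bmm, mul_assoc _ (m4 : Mat), h2, ← mul_assoc, bmm_mul]

theorem bm_neg (a b c d : Fin 2 → F3) : bm (-a) (-b) (-c) (-d) = -(bm a b c d) := by
  unfold bm
  rw [fromBlocks_neg, diagonal_neg, diagonal_neg, diagonal_neg, diagonal_neg]
  rfl

theorem mat_neg (p : PE) : p.neg.mat = -p.mat := by
  have h : bmm p.x.neg p.y.neg = -(bmm p.x p.y) := by
    unfold bmm
    rw [← bm_neg]
    congr 1 <;> apply vec_ext <;> rfl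
  show bmm p.x.neg p.y.neg * sw p.s = -(bmm p.x p.y * sw p.s)
  rw [h, neg_mul]

theorem bmm_one : bmm M2.one M2.one = 1 := by
  unfold bmm
  rw [one_eq]
  congr 1 <;> apply vec_ext <;> rfl

theorem mat_one : one.mat = 1 := by
  show bmm M2.one M2.one * sw false = 1
  rw [sf, mul_one, bmm_one]

theorem det_mul (x y : M2) (h1 : x.det = 1) (h2 : y.det = 1) : (x.mul y).det = 1 := by
  obtain ⟨a, b, c, d⟩ := x
  obtain ⟨a', b', c', d'⟩ := y
  have h1' : a * d - b * c = 1 := h1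
  have h2' : a' * d' - b' * c' = 1 := h2
  show (a * a' + b * c') * (c * b' + d * d') - (a * b' + b * d') * (c * a' + d * c') = 1
  linear_combination (a' * d' - b' * c') * h1' + h2'

theorem det_inv (x : M2) (h1 : x.det = 1) : x.inv.det = 1 := by
  obtain ⟨a, b, c, d⟩ := x
  have h1' : a * d - b * c = 1 := h1
  show d * a - (-b) * (-c) = 1
  linear_combination h1'

theorem inv_mul (x : M2) (h1 : x.det = 1) : x.inv.mul x = M2.one := by
  obtain ⟨a, b, c, d⟩ := x
  have h1' : a * d - b * c = 1 := h1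
  show (⟨d * a + (-b) * c, d * b + (-b) * d, (-c) * a + a * c, (-c) * b + a * d⟩ : M2) = ⟨1, 0, 0, 1⟩
  have e1 : d * a + (-b) * c = 1 := by linear_combination h1'
  have e2 : d * b + (-b) * d = 0 := by ring
  have e3 : (-c) * a + a * c = 0 := by ring
  have e4 : (-c) * b + a * d = 1 := by linear_combination h1'
  rw [e1, e2, e3, e4]

theorem Ok.mul {p q : PE} (hp : p.Ok) (hq : q.Ok) : (p.mul q).Ok := by
  obtain ⟨x, y, s⟩ := p
  cases s
  · exact ⟨det_mul _ _ hp.1 hq.1, det_mul _ _ hp.2 hq.2⟩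
  · exact ⟨det_mul _ _ hp.1 hq.2, det_mul _ _ hp.2 hq.1⟩

theorem Ok.inv {p : PE} (hp : p.Ok) : p.inv.Ok := by
  obtain ⟨x, y, s⟩ := p
  cases s
  · exact ⟨det_inv _ hp.1, det_inv _ hp.2⟩
  · exact ⟨det_inv _ hp.2, det_inv _ hp.1⟩

theorem ok_one : one.Ok := ⟨by decide, by decide⟩

theorem inv_mul_self {p : PE} (hp : p.Ok) : p.inv.mul p = one := by
  obtain ⟨x, y, s⟩ := p
  cases s
  · show (⟨x.inv.mul x, y.inv.mul y, false⟩ : PE) = ⟨M2.one, M2.one, false⟩
    rw [inv_mul _ hp.1, inv_mul _ hp.2]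
  · show (⟨y.inv.mul y, x.inv.mul x, false⟩ : PE) = ⟨M2.one, M2.one, false⟩
    rw [inv_mul _ hp.1, inv_mul _ hp.2]

theorem bm_mem {a b c d : Fin 2 → F3} (h : ∀ i, a i * d i - b i * c i = 1) :
    bm a b c d ∈ Matrix.symplecticGroup (Fin 2) F3 := by
  rw [SymplecticGroup.mem_iff, J_eq, bm_transpose, bm_mul, bm_mul]
  congr 1 <;> funext i <;> have := h i <;>
    simp only [Pi.add_apply, Pi.mul_apply, Pi.zero_apply, Pi.one_apply, Pi.neg_apply]
  · ring
  · linear_combination -this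
  · linear_combination this
  · ring

theorem mat_mem {p : PE} (hp : p.Ok) : p.mat ∈ Matrix.symplecticGroup (Fin 2) F3 := by
  obtain ⟨x, y, s⟩ := p
  have h1 : bmm x y ∈ Matrix.symplecticGroup (Fin 2) F3 := by
    apply bm_mem
    intro i
    fin_cases i
    · exact hp.1
    · exact hp.2
  cases s
  · show bmm x y * sw false ∈ _
    rw [sf, mul_one]; exact h1
  · show bmm x y * sw true ∈ _
    rw [st]
    exact mul_mem h1 m4.2

/-- the element of `Sp₄(3)` -/
noncomputable def sp (p : PE) (hp : p.Ok) : Sp := ⟨p.mat, mat_mem hp⟩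

open Classical in
/-- the element of `PSp₄(3)` (`1` if the determinants are wrong) -/
noncomputable def el (p : PE) : PSp 2 F3 := if h : p.Ok then π (p.sp h) else 1

theorem el_eq {p : PE} (h : p.Ok) : p.el = π (p.sp h) := by
  unfold el; rw [dif_pos h]

theorem el_one : one.el = 1 := by
  rw [el_eq ok_one, ← π_one]
  exact π_eq (Or.inl mat_one)

theorem el_mul {p q : PE} (hp : p.Ok) (hq : q.Ok) : (p.mul q).el = p.el * q.el := by
  rw [el_eq hp, el_eq hq, el_eq (hp.mul hq), ← π_mul]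
  exact π_eq (Or.inl (mat_mul p q))

theorem el_inv {p : PE} (hp : p.Ok) : p.inv.el = p.el⁻¹ := by
  have h := el_mul hp.inv hp
  rw [inv_mul_self hp, el_one] at h
  exact (inv_eq_of_mul_eq_one_left h.symm).symm

theorem det_neg (x : M2) : x.neg.det = x.det := by
  obtain ⟨a, b, c, d⟩ := x
  show (-a) * (-d) - (-b) * (-c) = a * d - b * c
  ring

theorem Ok.neg {p : PE} (hp : p.Ok) : p.neg.Ok := ⟨(det_neg _).trans hp.1, (det_neg _).trans hp.2⟩

theorem el_neg {p : PE} (hp : p.Ok) : p.neg.el = p.el := by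
  rw [el_eq hp, el_eq hp.neg]
  exact π_eq (Or.inr (mat_neg p))

theorem bmm_inj {x y x' y' : M2} (e : bmm x y = bmm x' y') : x = x' ∧ y = y' := by
  obtain ⟨h1, h2, h3, h4⟩ := bm_inj e
  obtain ⟨a, b, c, d⟩ := x
  obtain ⟨a', b', c', d'⟩ := y
  obtain ⟨a1, b1, c1, d1⟩ := x'
  obtain ⟨a2, b2, c2, d2⟩ := y'
  have e1 : a = a1 := congrFun h1 0
  have e2 : a' = a2 := congrFun h1 1
  have e3 : b = b1 := congrFun h2 0
  have e4 : b' = b2 := congrFun h2 1
  have e5 : c = c1 := congrFun h3 0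
  have e6 : c' = c2 := congrFun h3 1
  have e7 : d = d1 := congrFun h4 0
  have e8 : d' = d2 := congrFun h4 1
  rw [e1, e2, e3, e4, e5, e6, e7, e8]
  exact ⟨rfl, rfl⟩

theorem bmm_m4 (x y : M2) : (bmm x y * (m4 : Mat)) (.inl 0) (.inl 0) = 0 ∧
    (bmm x y * (m4 : Mat)) (.inl 0) (.inr 0) = 0 := by
  obtain ⟨a, b, c, d⟩ := x
  obtain ⟨a', b', c', d'⟩ := y
  unfold bmm bm
  rw [m4_eq, fromBlocks_multiply]
  constructor
  · rw [fromBlocks_apply₁₁]
    simp [Pm, Matrix.mul_apply, Fin.sum_univ_two, diagonal]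
  · rw [fromBlocks_apply₁₂]
    simp [Pm, Matrix.mul_apply, Fin.sum_univ_two, diagonal]

theorem bmm_ne {x y x' y' : M2} (hx : x.det = 1) (e : bmm x y = bmm x' y' * (m4 : Mat)) : False := by
  obtain ⟨h1, h2⟩ := bmm_m4 x' y'
  rw [← e] at h1 h2
  obtain ⟨a, b, c, d⟩ := x
  have g1 : a = 0 := h1
  have g2 : b = 0 := h2
  have hx' : a * d - b * c = 1 := hx
  rw [g1, g2, zero_mul, zero_mul, sub_zero] at hx'
  exact absurd hx' (by decide)

/-- entries of the matrix -/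
theorem mat_inj {p q : PE} (h : p.mat = q.mat) (hp : p.Ok) (hq : q.Ok) : p = q := by
  obtain ⟨x, y, s⟩ := p
  obtain ⟨x', y', s'⟩ := q
  have h' : bmm x y * sw s = bmm x' y' * sw s' := h
  cases s <;> cases s'
  · rw [sf, mul_one, mul_one] at h'
    obtain ⟨rfl, rfl⟩ := bmm_inj h'
    rfl
  · rw [sf, st, mul_one] at h'
    exact (bmm_ne hp.1 h').elim
  · rw [sf, st, mul_one] at h'
    exact (bmm_ne hq.1 h'.symm).elim
  · rw [st] at h'
    have h2 := congrArg (· * (m4 : Mat)) h'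
    simp only [mul_assoc, m4_sq, mul_one] at h2
    obtain ⟨rfl, rfl⟩ := bmm_inj h2
    rfl

/-- **Equality of elements is decided by `beqs`.** -/
theorem el_eq_iff {p q : PE} (hp : p.Ok) (hq : q.Ok) : p.el = q.el ↔ p.beqs q = true := by
  unfold beqs
  rw [Bool.or_eq_true, beq_iff, beq_iff]
  constructor
  · intro h
    rw [el_eq hp, el_eq hq] at h
    rcases eq_or_of_π_eq h with h1 | h1
    · exact Or.inl (mat_inj h1 hp hq)
    · right
      refine mat_inj ?_ hp hq.neg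
      rw [mat_neg]; exact h1
  · rintro (rfl | rfl)
    · rfl
    · exact el_neg hq

/-- the element `z` -/
def zz : PE := ⟨M2.one, M2.one.neg, false⟩
/-- the element `v` -/
def vv : PE := ⟨M2.one, M2.one, true⟩

theorem ok_zz : zz.Ok := ⟨by decide, by decide⟩
theorem ok_vv : vv.Ok := ⟨by decide, by decide⟩

theorem el_zz : zz.el = π m3 := by
  rw [el_eq ok_zz]
  refine π_eq (Or.inl ?_)
  show bmm M2.one M2.one.neg * sw false = m3
  rw [sf, mul_one, m3_eq]
  unfold bmm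
  congr 1 <;> apply vec_ext <;> rfl

theorem el_vv : vv.el = π m4 := by
  rw [el_eq ok_vv]
  refine π_eq (Or.inl ?_)
  show bmm M2.one M2.one * sw true = m4
  rw [st, bmm_one, one_mul]

theorem exists_pe_of_comm {g : Sp} (h : (g : Mat) * m3 = m3 * (g : Mat)) :
    ∃ p : PE, p.Ok ∧ (g : Mat) = p.mat ∧ p.s = false := by
  obtain ⟨a, b, c, d, hg⟩ := exists_bm h
  have hdet : ∀ i, a i * d i - b i * c i = 1 := det_of_mem (hg ▸ g.2)
  refine ⟨⟨⟨a 0, b 0, c 0, d 0⟩, ⟨a 1, b 1, c 1, d 1⟩, false⟩, ⟨hdet 0, hdet 1⟩, ?_, rfl⟩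
  show (g : Mat) = bmm ⟨a 0, b 0, c 0, d 0⟩ ⟨a 1, b 1, c 1, d 1⟩ * sw false
  rw [sf, mul_one, hg]
  unfold bmm
  congr 1 <;> apply vec_ext <;> rfl

/-- **Every element of `C(z)` is some `el p`.** -/
theorem exists_pe {g : PSp 2 F3} (h : g * zz.el = zz.el * g) : ∃ p : PE, p.Ok ∧ g = p.el := by
  rw [el_zz] at h
  obtain ⟨g, rfl⟩ := QuotientGroup.mk_surjective g
  have h0 : π g * π m3 = π m3 * π g := h
  rcases comm_or h0 with h1 | h1
  · obtain ⟨p, hp, hg, -⟩ := exists_pe_of_comm h1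
    refine ⟨p, hp, ?_⟩
    rw [el_eq hp]
    exact π_eq (Or.inl hg)
  · have h2 : ((m4 * g : Sp) : Mat) * m3 = m3 * ((m4 * g : Sp) : Mat) := by
      show (m4 : Mat) * g * m3 = m3 * (m4 * g)
      rw [mul_assoc, h1, mul_neg, ← mul_assoc, m43, neg_mul, neg_neg, mul_assoc]
    obtain ⟨p, hp, hg, -⟩ := exists_pe_of_comm h2
    refine ⟨vv.mul p, ok_vv.mul hp, ?_⟩
    rw [el_mul ok_vv hp, el_vv, el_eq hp, ← π_mul]
    refine π_eq (Or.inl ?_)
    show (g : Mat) = (m4 : Mat) * p.mat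
    rw [← hg]
    show (g : Mat) = (m4 : Mat) * ((m4 : Mat) * g)
    rw [← mul_assoc, m4_sq, one_mul]

theorem M2_mul_one (x : M2) : x.mul M2.one = x := by
  obtain ⟨a, b, c, d⟩ := x
  show (⟨a * 1 + b * 0, a * 0 + b * 1, c * 1 + d * 0, c * 0 + d * 1⟩ : M2) = ⟨a, b, c, d⟩
  simp only [mul_one, mul_zero, add_zero, zero_add]

theorem M2_one_mul (x : M2) : M2.one.mul x = x := by
  obtain ⟨a, b, c, d⟩ := x
  show (⟨1 * a + 0 * c, 1 * b + 0 * d, 0 * a + 1 * c, 0 * b + 1 * d⟩ : M2) = ⟨a, b, c, d⟩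
  simp only [one_mul, zero_mul, add_zero, zero_add]

theorem M2_mul_neg_one (x : M2) : x.mul M2.one.neg = x.neg := by
  obtain ⟨a, b, c, d⟩ := x
  show (⟨a * -1 + b * -0, a * -0 + b * -1, c * -1 + d * -0, c * -0 + d * -1⟩ : M2) = ⟨-a, -b, -c, -d⟩
  simp only [mul_neg, mul_one, neg_zero, mul_zero, add_zero, zero_add]

theorem M2_neg_one_mul (x : M2) : M2.one.neg.mul x = x.neg := by
  obtain ⟨a, b, c, d⟩ := x
  show (⟨-1 * a + -0 * c, -1 * b + -0 * d, -0 * a + -1 * c, -0 * b + -1 * d⟩ : M2) = ⟨-a, -b, -c, -d⟩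
  simp only [neg_mul, one_mul, neg_zero, zero_mul, add_zero, zero_add]

theorem M2_neg_neg (x : M2) : x.neg.neg = x := by
  obtain ⟨a, b, c, d⟩ := x
  show (⟨- -a, - -b, - -c, - -d⟩ : M2) = ⟨a, b, c, d⟩
  simp only [neg_neg]

theorem comm_zz {p : PE} (hp : p.Ok) : p.el * zz.el = zz.el * p.el := by
  rw [← el_mul hp ok_zz, ← el_mul ok_zz hp, el_eq_iff (hp.mul ok_zz) (ok_zz.mul hp)]
  unfold beqs
  rw [Bool.or_eq_true, beq_iff, beq_iff]
  obtain ⟨x, y, s⟩ := p
  cases s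
  · left
    show (⟨x.mul M2.one, y.mul M2.one.neg, false⟩ : PE) = ⟨M2.one.mul x, M2.one.neg.mul y, false⟩
    rw [M2_mul_one, M2_one_mul, M2_mul_neg_one, M2_neg_one_mul]
  · right
    show (⟨x.mul M2.one.neg, y.mul M2.one, true⟩ : PE) = ⟨(M2.one.mul x).neg, (M2.one.neg.mul y).neg, true⟩
    rw [M2_mul_one, M2_one_mul, M2_mul_neg_one, M2_neg_one_mul, M2_neg_neg]

end PE

end Cfsg.Agent.KFacts.PSpFourThree

end

-- merged: Cfsg.Agent.KFacts.PSpFourThree.Chk
section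

/-!
# `PSp₄(3)`: kernel checks for the centraliser of a 2-central involution (helper931)
-/

set_option autoImplicit false
set_option linter.style.haveILetI false
set_option maxRecDepth 100000

namespace Cfsg.Agent.KFacts.PSpFourThree

open Matrix Subgroup Cfsg
open Cfsg.Agent.Lib.FieldThree (F3)

/-! ### Enumeration -/

/-- `SL₂(3)` -/
def slL : List M2 :=
  [⟨.o, .i, .m, .o⟩, ⟨.o, .i, .m, .i⟩, ⟨.o, .i, .m, .m⟩, ⟨.o, .m, .i, .o⟩, ⟨.o, .m, .i, .i⟩, ⟨.o, .m, .i, .m⟩,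
   ⟨.i, .o, .o, .i⟩, ⟨.i, .o, .i, .i⟩, ⟨.i, .o, .m, .i⟩, ⟨.i, .i, .o, .i⟩, ⟨.i, .i, .i, .m⟩, ⟨.i, .i, .m, .o⟩,
   ⟨.i, .m, .o, .i⟩, ⟨.i, .m, .i, .o⟩, ⟨.i, .m, .m, .m⟩, ⟨.m, .o, .o, .m⟩, ⟨.m, .o, .i, .m⟩, ⟨.m, .o, .m, .m⟩,
   ⟨.m, .i, .o, .m⟩, ⟨.m, .i, .i, .i⟩, ⟨.m, .i, .m, .o⟩, ⟨.m, .m, .o, .m⟩, ⟨.m, .m, .i, .o⟩, ⟨.m, .m, .m, .i⟩]

/-- all elements of a list -/
def allG {α : Type*} (f : α → Bool) (l : List α) : Bool := List.rec true (fun x _ ih => and (f x) ih) l

/-- some element of a list -/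
def anyG {α : Type*} (f : α → Bool) (l : List α) : Bool := List.rec false (fun x _ ih => or (f x) ih) l

theorem allG_iff {α : Type*} (f : α → Bool) (l : List α) : allG f l = true ↔ ∀ x ∈ l, f x = true := by
  induction l with
  | nil => simp [allG]
  | cons x w ih =>
    show and (f x) (allG f w) = true ↔ _
    simp [ih]

theorem anyG_iff {α : Type*} (f : α → Bool) (l : List α) : anyG f l = true ↔ ∃ x ∈ l, f x = true := by
  induction l with
  | nil => simp [anyG]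
  | cons x w ih =>
    show or (f x) (anyG f w) = true ↔ _
    simp [ih]

theorem mem_slL_aux : ∀ a b c d : F3, a * d - b * c = 1 → M2.mk a b c d ∈ slL := by decide +kernel

theorem mem_slL {x : M2} (h : x.det = 1) : x ∈ slL := by
  obtain ⟨a, b, c, d⟩ := x
  exact mem_slL_aux a b c d h

theorem slL_det : ∀ x ∈ slL, x.det = 1 := by decide +kernel

/-- all elements of `SL₂(3) wr 2` -/
def allPE (f : PE → Bool) : Bool :=
  allG (fun x => allG (fun y => and (f ⟨x, y, false⟩) (f ⟨x, y, true⟩)) slL) slL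

theorem allPE_spec {f : PE → Bool} (h : allPE f = true) {p : PE} (hp : p.Ok) : f p = true := by
  obtain ⟨x, y, s⟩ := p
  have h1 := (allG_iff _ _).1 ((allG_iff _ _).1 h x (mem_slL hp.1)) y (mem_slL hp.2)
  rw [Bool.and_eq_true] at h1
  cases s
  · exact h1.1
  · exact h1.2

namespace PE

/-- eighth power -/
def p8 (p : PE) : PE := ((p.mul p).mul (p.mul p)).mul ((p.mul p).mul (p.mul p))

/-- trivial element -/
def isOne (p : PE) : Bool := p.beqs one

/-- central product of the quaternion groups -/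
def inQ (x : M2) : Bool := or (eq3 (x.a + x.d) 0) (and (eq3 x.b 0) (eq3 x.c 0))

/-- `R` -/
def inR (p : PE) : Bool := and (inQ p.x) (and (inQ p.y) (not p.s))

/-- commutation -/
def cmt (p q : PE) : Bool := (p.mul q).beqs (q.mul p)

/-- conjugation -/
def cj (d p : PE) : PE := (d.mul p).mul d.inv

def q1 : M2 := ⟨.o, .m, .i, .o⟩
def q2 : M2 := ⟨.i, .i, .i, .m⟩
def r1 : PE := ⟨q1, M2.one, false⟩
def r2 : PE := ⟨q2, M2.one, false⟩
def r3 : PE := ⟨M2.one, q1, false⟩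
def r4 : PE := ⟨M2.one, q2, false⟩
/-- element of order three of `SL₂(3)` -/
def tt : M2 := ⟨.i, .i, .o, .i⟩
def tt2 : M2 := ⟨.i, .m, .o, .i⟩
def d1 : PE := ⟨tt, M2.one, false⟩

/-- exponent `24` -/
theorem exp_check : allPE (fun p => isOne (((p.p8).mul p.p8).mul p.p8)) = true := by decide +kernel

/-- `C(R) = ⟨z⟩` -/
theorem cR_check : allPE (fun p => or (not (and (cmt p r1) (and (cmt p r2) (and (cmt p r3) (cmt p r4)))))
    (or (p.beqs one) (p.beqs zz))) = true := by decide +kernel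

/-- `O₂(P) = R` -/
theorem max_check : allPE (fun p => or (inR p) (or (not (isOne p.p8)) (not (isOne (p.mul (cj d1 p)).p8)))) = true := by
  decide +kernel

/-- `R` is closed under products -/
theorem inR_mul_check : allG (fun x => allG (fun y => or (not (and (inQ x) (inQ y))) (inQ (x.mul y))) slL) slL = true := by
  decide +kernel

theorem inQ_inv_check : allG (fun x => or (not (inQ x)) (inQ x.inv)) slL = true := by decide +kernel

theorem inQ_neg_check : allG (fun x => or (not (inQ x)) (inQ x.neg)) slL = true := by decide +kernel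

theorem inQ_conj_check : allG (fun x => allG (fun y => or (not (inQ y)) (inQ ((x.mul y).mul x.inv))) slL) slL = true := by
  decide +kernel

/-- `R` is a 2-group -/
theorem R8_check : allPE (fun p => or (not (inR p)) (isOne p.p8)) = true := by decide +kernel

/-- generators of `R` -/
theorem genR_check : allG (fun x => or (not (inQ x))
    (and (anyG (fun w => (PE.mk x M2.one false).beqs w) [one, r1, r2, r1.mul r2, zz, r1.mul zz, r2.mul zz, (r1.mul r2).mul zz])
      (anyG (fun w => (PE.mk M2.one x false).beqs w) [one, r3, r4, r3.mul r4, zz, r3.mul zz, r4.mul zz, (r3.mul r4).mul zz])))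
    slL = true := by decide +kernel

/-- pairs of elements for the irreducibility -/
def pairs : List (PE × PE) :=
  [(⟨M2.one, M2.one, false⟩, ⟨tt, M2.one, false⟩), (⟨tt, M2.one, false⟩, ⟨tt2, M2.one, false⟩),
   (⟨tt2, M2.one, false⟩, ⟨M2.one, M2.one, false⟩), (⟨M2.one, M2.one, false⟩, ⟨M2.one, tt, false⟩),
   (⟨M2.one, tt, false⟩, ⟨M2.one, tt2, false⟩), (⟨M2.one, tt2, false⟩, ⟨M2.one, M2.one, false⟩),
   (⟨M2.one, M2.one, true⟩, ⟨tt, M2.one, true⟩), (⟨tt, M2.one, true⟩, ⟨tt2, M2.one, true⟩),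
   (⟨tt2, M2.one, true⟩, ⟨M2.one, M2.one, true⟩), (⟨M2.one, M2.one, true⟩, ⟨M2.one, tt, true⟩),
   (⟨M2.one, tt, true⟩, ⟨M2.one, tt2, true⟩), (⟨M2.one, tt2, true⟩, ⟨M2.one, M2.one, true⟩)]

/-- `g` is a product of two conjugates of `n`, up to `z` -/
def hit (n g : PE) : Bool :=
  anyG (fun d => let w := (cj d.1 n).mul (cj d.2 n); or (w.beqs g) (w.beqs (g.mul zz))) pairs

/-- irreducibility -/
theorem irr_check : allG (fun x => allG (fun y => or (not (and (inQ x) (inQ y)))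
    (let n : PE := ⟨x, y, false⟩
     or (or (n.beqs one) (n.beqs zz)) (and (and (hit n r1) (hit n r2)) (and (hit n r3) (hit n r4))))) slL) slL = true := by
  decide +kernel

/-- no noncentral element of `R` commutes with `R` -/
theorem comm_check : allG (fun x => allG (fun y => or (not (and (inQ x) (inQ y)))
    (let n : PE := ⟨x, y, false⟩
     or (or (n.beqs one) (n.beqs zz)) (anyG (fun r => ((n.mul (r.mul n)).mul r.inv).beqs (n.mul (n.mul zz))) [r1, r2, r3, r4])))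
     slL) slL = true := by
  decide +kernel

/-- elements of order dividing three -/
def L9 : List M2 := [M2.one, ⟨.o, .i, .m, .m⟩, ⟨.o, .m, .i, .m⟩, ⟨.i, .o, .i, .i⟩, ⟨.i, .o, .m, .i⟩, ⟨.i, .i, .o, .i⟩,
  ⟨.i, .m, .o, .i⟩, ⟨.m, .i, .m, .o⟩, ⟨.m, .m, .i, .o⟩]

theorem L9_check : allG (fun x => and (((x.mul x).mul x).beq M2.one) (eq3 x.det 1)) L9 = true := by decide +kernel

/-- `SL₂(3)` is generated by elements of order three -/
theorem gen_check : allG (fun x => anyG (fun a => anyG (fun b => anyG (fun c => ((a.mul b).mul c).beq x) L9) L9) L9)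
    slL = true := by decide +kernel

/-- the involutions outside `D` -/
theorem inv_check : allG (fun x => allG (fun y => let p : PE := ⟨x, y, true⟩
    or (not (isOne (p.mul p))) (let h : PE := ⟨y, M2.one, false⟩
      or ((cj h p).beqs vv) ((cj h p).beqs (vv.mul zz)))) slL) slL = true := by decide +kernel

end PE

end Cfsg.Agent.KFacts.PSpFourThree

end

-- merged: Cfsg.Agent.KFacts.PSpFourThree.Cent
section

/-!
# `PSp₄(3)`: the centraliser of a 2-central involution (helper931)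

All fields of `Facts.Three` for `K = PSp 2 F3` except `classes` (file `Classes`).
-/

set_option autoImplicit false
set_option linter.style.haveILetI false
set_option maxRecDepth 100000

namespace Cfsg.Agent.KFacts.PSpFourThree

open Matrix Subgroup Cfsg
open Cfsg.Agent.Lib.FieldThree (F3)
open Cfsg.Agent.SmallSimple.S1000.Order25920PSp (Mat Sp π π_mul π_one π_eq m1 m2 m3 m4)
open Cfsg.Agent.OddHalf.Small.PSp43 (πh πh_apply comm_or eq_or_of_π_eq)
open Cfsg.Agent.OddHalf.D6.QThree.Facts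

namespace PE

/-! ### Reflection -/

/-- the involution `z` -/
noncomputable def z : PSp 2 F3 := zz.el

theorem eq_el {p q : PE} (hp : p.Ok) (hq : q.Ok) (h : p.beqs q = true) : p.el = q.el := (el_eq_iff hp hq).2 h

theorem el_eq_one {p : PE} (hp : p.Ok) : p.el = 1 ↔ isOne p = true := by
  rw [← el_one]; exact el_eq_iff hp ok_one

theorem comm_iff {p q : PE} (hp : p.Ok) (hq : q.Ok) : p.el * q.el = q.el * p.el ↔ cmt p q = true := by
  rw [← el_mul hp hq, ← el_mul hq hp]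
  exact el_eq_iff (hp.mul hq) (hq.mul hp)

theorem ok_p8 {p : PE} (hp : p.Ok) : p.p8.Ok :=
  ((hp.mul hp).mul (hp.mul hp)).mul ((hp.mul hp).mul (hp.mul hp))

theorem el_p8 {p : PE} (hp : p.Ok) : p.p8.el = p.el ^ 8 := by
  have h2 := hp.mul hp
  have h4 := h2.mul h2
  unfold p8
  rw [el_mul h4 h4, el_mul h2 h2, el_mul hp hp]
  simp only [pow_succ, pow_zero, one_mul, mul_assoc]

theorem ok_cj {d p : PE} (hd : d.Ok) (hp : p.Ok) : (cj d p).Ok := (hd.mul hp).mul hd.inv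

theorem el_cj {d p : PE} (hd : d.Ok) (hp : p.Ok) : (cj d p).el = d.el * p.el * d.el⁻¹ := by
  unfold cj
  rw [el_mul (hd.mul hp) hd.inv, el_mul hd hp, el_inv hd]

theorem z_comm {p : PE} (hp : p.Ok) : p.el * z = z * p.el := comm_zz hp

theorem exists_el {g : PSp 2 F3} (h : g * z = z * g) : ∃ p : PE, p.Ok ∧ g = p.el := exists_pe h

theorem det_one : M2.one.det = 1 := by decide
theorem inQ_one : inQ M2.one = true := by decide

theorem ok_r1 : r1.Ok := ⟨by decide, by decide⟩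
theorem ok_r2 : r2.Ok := ⟨by decide, by decide⟩
theorem ok_r3 : r3.Ok := ⟨by decide, by decide⟩
theorem ok_r4 : r4.Ok := ⟨by decide, by decide⟩
theorem ok_d1 : d1.Ok := ⟨by decide, by decide⟩

theorem z_mul_z : z * z = 1 := by
  unfold z
  rw [← el_mul ok_zz ok_zz, el_eq_one (ok_zz.mul ok_zz)]
  decide

theorem z_ne : z ≠ 1 := by
  intro h
  exact absurd ((el_eq_one ok_zz).1 h) (by decide)

/-! ### The group `R` -/

theorem inR_iff (p : PE) : inR p = true ↔ inQ p.x = true ∧ inQ p.y = true ∧ p.s = false := by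
  unfold inR
  rw [Bool.and_eq_true, Bool.and_eq_true, Bool.not_eq_true']

theorem inQ_mul {x y : M2} (hx : x.det = 1) (hy : y.det = 1) (h1 : inQ x = true) (h2 : inQ y = true) :
    inQ (x.mul y) = true := by
  have h := (allG_iff _ _).1 ((allG_iff _ _).1 inR_mul_check x (mem_slL hx)) y (mem_slL hy)
  rw [h1, h2] at h
  exact h

theorem inQ_inv {x : M2} (hx : x.det = 1) (h1 : inQ x = true) : inQ x.inv = true := by
  have h := (allG_iff _ _).1 inQ_inv_check x (mem_slL hx)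
  rw [h1] at h
  exact h

theorem inQ_neg {x : M2} (hx : x.det = 1) (h1 : inQ x = true) : inQ x.neg = true := by
  have h := (allG_iff _ _).1 inQ_neg_check x (mem_slL hx)
  rw [h1] at h
  exact h

theorem inQ_conj {x y : M2} (hx : x.det = 1) (hy : y.det = 1) (h1 : inQ y = true) :
    inQ ((x.mul y).mul x.inv) = true := by
  have h := (allG_iff _ _).1 ((allG_iff _ _).1 inQ_conj_check x (mem_slL hx)) y (mem_slL hy)
  rw [h1] at h
  exact h

/-- `R = Q₈ * Q₈` -/
noncomputable def R : Subgroup (PSp 2 F3) where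
  carrier := {g | ∃ p : PE, p.Ok ∧ inR p = true ∧ g = p.el}
  one_mem' := ⟨one, ok_one, by decide, el_one.symm⟩
  mul_mem' := by
    rintro _ _ ⟨p, hp, h1, rfl⟩ ⟨q, hq, h2, rfl⟩
    rw [inR_iff] at h1 h2
    refine ⟨p.mul q, hp.mul hq, ?_, (el_mul hp hq).symm⟩
    obtain ⟨x, y, s⟩ := p
    obtain ⟨h11, h12, h13⟩ := h1
    obtain ⟨h21, h22, h23⟩ := h2
    have hs : s = false := h13
    subst hs
    rw [inR_iff]
    exact ⟨inQ_mul hp.1 hq.1 h11 h21, inQ_mul hp.2 hq.2 h12 h22, h23⟩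
  inv_mem' := by
    rintro _ ⟨p, hp, h1, rfl⟩
    rw [inR_iff] at h1
    refine ⟨p.inv, hp.inv, ?_, (el_inv hp).symm⟩
    obtain ⟨x, y, s⟩ := p
    obtain ⟨h11, h12, h13⟩ := h1
    have hs : s = false := h13
    subst hs
    rw [inR_iff]
    exact ⟨inQ_inv hp.1 h11, inQ_inv hp.2 h12, rfl⟩

theorem mem_R {p : PE} (hp : p.Ok) : p.el ∈ R ↔ inR p = true := by
  constructor
  · rintro ⟨q, hq, h1, h2⟩
    rw [inR_iff] at h1
    have h3 := (el_eq_iff hp hq).1 h2
    unfold beqs at h3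
    rw [Bool.or_eq_true, beq_iff, beq_iff] at h3
    rcases h3 with rfl | rfl
    · rw [inR_iff]; exact h1
    · rw [inR_iff]
      exact ⟨inQ_neg hq.1 h1.1, inQ_neg hq.2 h1.2.1, h1.2.2⟩
  · intro h
    exact ⟨p, hp, h, rfl⟩

theorem R_comm {r : PSp 2 F3} (hr : r ∈ R) : r * z = z * r := by
  obtain ⟨p, hp, -, rfl⟩ := hr
  exact z_comm hp

theorem R_norm {g : PSp 2 F3} (hg : g * z = z * g) {r : PSp 2 F3} (hr : r ∈ R) : g * r * g⁻¹ ∈ R := by
  obtain ⟨d, hd, rfl⟩ := exists_el hg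
  obtain ⟨p, hp, h1, rfl⟩ := hr
  rw [← el_cj hd hp, mem_R (ok_cj hd hp)]
  rw [inR_iff] at h1
  obtain ⟨x, y, s⟩ := p
  obtain ⟨a, b, t⟩ := d
  obtain ⟨h11, h12, h13⟩ := h1
  have hs : s = false := h13
  subst hs
  rw [inR_iff]
  cases t
  · exact ⟨inQ_conj hd.1 hp.1 h11, inQ_conj hd.2 hp.2 h12, rfl⟩
  · exact ⟨inQ_conj hd.1 hp.2 h12, inQ_conj hd.2 hp.1 h11, rfl⟩

theorem R_pow {r : PSp 2 F3} (hr : r ∈ R) : r ^ 8 = 1 := by
  obtain ⟨p, hp, h1, rfl⟩ := hr
  have h := allPE_spec R8_check hp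
  rw [h1] at h
  rw [← el_p8 hp, el_eq_one (ok_p8 hp)]
  exact h

theorem isPGroup_R : IsPGroup 2 R := by
  rintro ⟨r, hr⟩
  exact ⟨3, Subtype.ext (R_pow hr)⟩

/-- elements of 2-groups in `P` have order dividing eight -/
theorem pow_eight {N : Subgroup (PSp 2 F3)} (hN : IsPGroup 2 N) {n : PSp 2 F3} (hn : n ∈ N) (hz : n * z = z * n) :
    n ^ 8 = 1 := by
  obtain ⟨p, hp, rfl⟩ := exists_el hz
  have h24 : p.el ^ 24 = 1 := by
    have h := allPE_spec exp_check hp
    have h8 := ok_p8 hp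
    rw [← el_eq_one ((h8.mul h8).mul h8), el_mul (h8.mul h8) h8, el_mul h8 h8, el_p8 hp, ← pow_add, ← pow_add] at h
    exact h
  obtain ⟨k, hk⟩ := hN ⟨_, hn⟩
  have hk' : p.el ^ 2 ^ k = 1 := congrArg Subtype.val hk
  have h1 : orderOf p.el ∣ 2 ^ k := orderOf_dvd_of_pow_eq_one hk'
  have h2 : orderOf p.el ∣ 24 := orderOf_dvd_of_pow_eq_one h24
  obtain ⟨j, hj, hj'⟩ := (Nat.dvd_prime_pow Nat.prime_two).1 h1
  rw [hj'] at h2
  have h3 : j ≤ 3 := by
    by_contra hcon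
    push Not at hcon
    have h4 : (2 : ℕ) ^ 4 ∣ 24 := (pow_dvd_pow 2 hcon).trans h2
    omega
  apply orderOf_dvd_iff_pow_eq_one.1
  rw [hj', show (8 : ℕ) = 2 ^ 3 from rfl]
  exact pow_dvd_pow 2 h3

theorem max_R (N : Subgroup (PSp 2 F3)) (hN : IsPGroup 2 N) (h1 : ∀ n ∈ N, n * z = z * n)
    (h2 : ∀ g, g * z = z * g → ∀ n ∈ N, g * n * g⁻¹ ∈ N) : N ≤ R := by
  intro n hn
  obtain ⟨p, hp, rfl⟩ := exists_el (h1 n hn)
  have h := allPE_spec max_check hp
  rw [Bool.or_eq_true, Bool.or_eq_true, Bool.not_eq_true', Bool.not_eq_true'] at h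
  rcases h with h | h | h
  · exact (mem_R hp).2 h
  · exfalso
    have h3 := pow_eight hN hn (h1 _ hn)
    rw [← el_p8 hp, el_eq_one (ok_p8 hp), h] at h3
    exact Bool.false_ne_true h3
  · exfalso
    have hm := hp.mul (ok_cj ok_d1 hp)
    have h4 : (p.mul (cj d1 p)).el ∈ N := by
      rw [el_mul hp (ok_cj ok_d1 hp), el_cj ok_d1 hp]
      exact mul_mem hn (h2 _ (z_comm ok_d1) _ hn)
    have h3 := pow_eight hN h4 (h1 _ h4)
    rw [← el_p8 hm, el_eq_one (ok_p8 hm), h] at h3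
    exact Bool.false_ne_true h3

theorem cent_R (g : PSp 2 F3) (hg : g * z = z * g) (h : ∀ r ∈ R, g * r = r * g) : g = 1 ∨ g = z := by
  obtain ⟨p, hp, rfl⟩ := exists_el hg
  have h1 := allPE_spec cR_check hp
  have key : ∀ q : PE, q.Ok → inR q = true → cmt p q = true := fun q hq hR =>
    (comm_iff hp hq).1 (h _ ((mem_R hq).2 hR))
  rw [key r1 ok_r1 (by decide), key r2 ok_r2 (by decide), key r3 ok_r3 (by decide), key r4 ok_r4 (by decide)] at h1
  have h2 : (p.beqs one || p.beqs zz) = true := h1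
  rw [Bool.or_eq_true] at h2
  rcases h2 with h2 | h2
  · left; rw [← el_one]; exact eq_el hp ok_one h2
  · right; exact eq_el hp ok_zz h2

theorem ok_pairs : ∀ d ∈ pairs, d.1.Ok ∧ d.2.Ok := by
  unfold Ok
  decide +kernel

theorem mem_of_hit {N : Subgroup (PSp 2 F3)} (h2 : ∀ g, g * z = z * g → ∀ n ∈ N, g * n * g⁻¹ ∈ N) (hzN : z ∈ N)
    {n g : PE} (hn : n.Ok) (hg : g.Ok) (hnN : n.el ∈ N) (h : hit n g = true) : g.el ∈ N := by
  unfold hit at h
  rw [anyG_iff] at h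
  obtain ⟨d, hd, h3⟩ := h
  obtain ⟨hd1, hd2⟩ := ok_pairs d hd
  have hw : ((cj d.1 n).mul (cj d.2 n)).Ok := (ok_cj hd1 hn).mul (ok_cj hd2 hn)
  have hwN : ((cj d.1 n).mul (cj d.2 n)).el ∈ N := by
    rw [el_mul (ok_cj hd1 hn) (ok_cj hd2 hn), el_cj hd1 hn, el_cj hd2 hn]
    exact mul_mem (h2 _ (z_comm hd1) _ hnN) (h2 _ (z_comm hd2) _ hnN)
  have h4 : (((cj d.1 n).mul (cj d.2 n)).beqs g || ((cj d.1 n).mul (cj d.2 n)).beqs (g.mul zz)) = true := h3
  rw [Bool.or_eq_true] at h4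
  rcases h4 with h4 | h4
  · rw [← eq_el hw hg h4]; exact hwN
  · have h5 := eq_el hw (hg.mul ok_zz) h4
    rw [el_mul hg ok_zz] at h5
    have h6 : g.el = ((cj d.1 n).mul (cj d.2 n)).el * z := by
      rw [h5, mul_assoc]
      show _ = g.el * (z * z)
      rw [z_mul_z, mul_one]
    rw [h6]
    exact mul_mem hwN hzN

theorem R_le {N : Subgroup (PSp 2 F3)} (hz : z ∈ N) (h1 : r1.el ∈ N) (h2 : r2.el ∈ N) (h3 : r3.el ∈ N)
    (h4 : r4.el ∈ N) : R ≤ N := by
  rintro _ ⟨p, hp, hR, rfl⟩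
  rw [inR_iff] at hR
  obtain ⟨x, y, s⟩ := p
  obtain ⟨hx, hy, hs⟩ := hR
  have hs' : s = false := hs
  subst hs'
  have hxd : x.det = 1 := hp.1
  have hyd : y.det = 1 := hp.2
  have cx := (allG_iff _ _).1 genR_check x (mem_slL hxd)
  have cy := (allG_iff _ _).1 genR_check y (mem_slL hyd)
  have hx' : inQ x = true := hx
  have hy' : inQ y = true := hy
  rw [hx'] at cx
  rw [hy'] at cy
  have cx2 := (Bool.and_eq_true _ _ ▸ cx : _ ∧ _).1
  have cy2 := (Bool.and_eq_true _ _ ▸ cy : _ ∧ _).2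
  rw [anyG_iff] at cx2 cy2
  have hox : (PE.mk x M2.one false).Ok := ⟨hxd, det_one⟩
  have hoy : (PE.mk M2.one y false).Ok := ⟨det_one, hyd⟩
  have e : (PE.mk x y false) = (PE.mk x M2.one false).mul (PE.mk M2.one y false) := by
    show _ = (⟨x.mul M2.one, M2.one.mul y, false⟩ : PE)
    rw [M2_mul_one, M2_one_mul]
  rw [e, el_mul hox hoy]
  have hz' : zz.el ∈ N := hz
  refine mul_mem ?_ ?_
  · obtain ⟨w, hw, hw2⟩ := cx2
    have key : w.Ok ∧ w.el ∈ N := by
      simp only [List.mem_cons, List.not_mem_nil, or_false] at hw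
      rcases hw with rfl | rfl | rfl | rfl | rfl | rfl | rfl | rfl
      · exact ⟨ok_one, by rw [el_one]; exact one_mem _⟩
      · exact ⟨ok_r1, h1⟩
      · exact ⟨ok_r2, h2⟩
      · exact ⟨ok_r1.mul ok_r2, by rw [el_mul ok_r1 ok_r2]; exact mul_mem h1 h2⟩
      · exact ⟨ok_zz, hz'⟩
      · exact ⟨ok_r1.mul ok_zz, by rw [el_mul ok_r1 ok_zz]; exact mul_mem h1 hz'⟩
      · exact ⟨ok_r2.mul ok_zz, by rw [el_mul ok_r2 ok_zz]; exact mul_mem h2 hz'⟩
      · exact ⟨(ok_r1.mul ok_r2).mul ok_zz, by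
          rw [el_mul (ok_r1.mul ok_r2) ok_zz, el_mul ok_r1 ok_r2]; exact mul_mem (mul_mem h1 h2) hz'⟩
    rw [eq_el hox key.1 hw2]; exact key.2
  · obtain ⟨w, hw, hw2⟩ := cy2
    have key : w.Ok ∧ w.el ∈ N := by
      simp only [List.mem_cons, List.not_mem_nil, or_false] at hw
      rcases hw with rfl | rfl | rfl | rfl | rfl | rfl | rfl | rfl
      · exact ⟨ok_one, by rw [el_one]; exact one_mem _⟩
      · exact ⟨ok_r3, h3⟩
      · exact ⟨ok_r4, h4⟩
      · exact ⟨ok_r3.mul ok_r4, by rw [el_mul ok_r3 ok_r4]; exact mul_mem h3 h4⟩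
      · exact ⟨ok_zz, hz'⟩
      · exact ⟨ok_r3.mul ok_zz, by rw [el_mul ok_r3 ok_zz]; exact mul_mem h3 hz'⟩
      · exact ⟨ok_r4.mul ok_zz, by rw [el_mul ok_r4 ok_zz]; exact mul_mem h4 hz'⟩
      · exact ⟨(ok_r3.mul ok_r4).mul ok_zz, by
          rw [el_mul (ok_r3.mul ok_r4) ok_zz, el_mul ok_r3 ok_r4]; exact mul_mem (mul_mem h3 h4) hz'⟩
    rw [eq_el hoy key.1 hw2]; exact key.2

/-- `P` is irreducible on `R / ⟨z⟩` -/
theorem irr (N : Subgroup (PSp 2 F3)) (hN : N ≤ R) (h2 : ∀ g, g * z = z * g → ∀ n ∈ N, g * n * g⁻¹ ∈ N) :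
    (∀ n ∈ N, n = 1 ∨ n = z) ∨ N = R := by
  by_cases hall : ∀ n ∈ N, n = 1 ∨ n = z
  · exact Or.inl hall
  right
  push Not at hall
  obtain ⟨n, hn, hn1, hnz⟩ := hall
  obtain ⟨p, hp, hR, rfl⟩ := hN hn
  rw [inR_iff] at hR
  obtain ⟨x, y, s⟩ := p
  obtain ⟨hx, hy, hs⟩ := hR
  have hs' : s = false := hs
  subst hs'
  have hx' : inQ x = true := hx
  have hy' : inQ y = true := hy
  have c1 := (allG_iff _ _).1 ((allG_iff _ _).1 irr_check x (mem_slL hp.1)) y (mem_slL hp.2)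
  have c2 := (allG_iff _ _).1 ((allG_iff _ _).1 comm_check x (mem_slL hp.1)) y (mem_slL hp.2)
  rw [hx', hy'] at c1 c2
  have n1 : (PE.mk x y false).beqs one = false := by
    rw [Bool.eq_false_iff]
    intro h
    exact hn1 ((el_eq_one hp).2 h)
  have nz : (PE.mk x y false).beqs zz = false := by
    rw [Bool.eq_false_iff]
    intro h
    exact hnz (eq_el hp ok_zz h)
  have c1' : ((hit (PE.mk x y false) r1 && hit (PE.mk x y false) r2) && (hit (PE.mk x y false) r3 &&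
      hit (PE.mk x y false) r4)) = true := by
    have h : (false || (((PE.mk x y false).beqs one || (PE.mk x y false).beqs zz) ||
      ((hit (PE.mk x y false) r1 && hit (PE.mk x y false) r2) && (hit (PE.mk x y false) r3 &&
      hit (PE.mk x y false) r4)))) = true := c1
    rw [n1, nz] at h
    exact h
  have c2' : anyG (fun r => (((PE.mk x y false).mul (r.mul (PE.mk x y false))).mul r.inv).beqs
      ((PE.mk x y false).mul ((PE.mk x y false).mul zz))) [r1, r2, r3, r4] = true := by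
    have h : (false || (((PE.mk x y false).beqs one || (PE.mk x y false).beqs zz) ||
      anyG (fun r => (((PE.mk x y false).mul (r.mul (PE.mk x y false))).mul r.inv).beqs
      ((PE.mk x y false).mul ((PE.mk x y false).mul zz))) [r1, r2, r3, r4])) = true := c2
    rw [n1, nz] at h
    exact h
  -- `z ∈ N`
  have hzN : z ∈ N := by
    rw [anyG_iff] at c2'
    obtain ⟨r, hr, h3⟩ := c2'
    have hrO : r.Ok := by
      simp only [List.mem_cons, List.not_mem_nil, or_false] at hr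
      rcases hr with rfl | rfl | rfl | rfl
      · exact ok_r1
      · exact ok_r2
      · exact ok_r3
      · exact ok_r4
    have h4 := eq_el ((hp.mul (hrO.mul hp)).mul hrO.inv) (hp.mul (hp.mul ok_zz)) h3
    rw [el_mul (hp.mul (hrO.mul hp)) hrO.inv, el_mul hp (hrO.mul hp), el_mul hrO hp, el_inv hrO,
      el_mul hp (hp.mul ok_zz), el_mul hp ok_zz] at h4
    have h5 : z = ((PE.mk x y false).el)⁻¹ * (((PE.mk x y false).el)⁻¹ *
        ((PE.mk x y false).el * (r.el * (PE.mk x y false).el * (r.el)⁻¹))) := by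
      have h6 : (PE.mk x y false).el * (r.el * (PE.mk x y false).el * (r.el)⁻¹) =
          (PE.mk x y false).el * ((PE.mk x y false).el * zz.el) := by
        rw [← h4]; simp only [mul_assoc]
      rw [h6, inv_mul_cancel_left, inv_mul_cancel_left]
      rfl
    rw [h5]
    exact mul_mem (inv_mem hn) (mul_mem (inv_mem hn) (mul_mem hn (h2 _ (z_comm hrO) _ hn)))
  rw [Bool.and_eq_true, Bool.and_eq_true, Bool.and_eq_true] at c1'
  obtain ⟨⟨k1, k2⟩, k3, k4⟩ := c1'
  exact le_antisymm hN (R_le hzN (mem_of_hit h2 hzN hp ok_r1 hn k1) (mem_of_hit h2 hzN hp ok_r2 hn k2)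
    (mem_of_hit h2 hzN hp ok_r3 hn k3) (mem_of_hit h2 hzN hp ok_r4 hn k4))

theorem ab (B : Subgroup (PSp 2 F3)) (hB : B ≤ R) (hab : ∀ a ∈ B, ∀ b ∈ B, a * b = b * a)
    (h2 : ∀ g, g * z = z * g → ∀ n ∈ B, g * n * g⁻¹ ∈ B) : ∀ b ∈ B, b = 1 ∨ b = z := by
  rcases irr B hB h2 with h | h
  · exact h
  · exfalso
    have h3 := hab r1.el (by rw [h]; exact (mem_R ok_r1).2 (by decide)) r2.el
      (by rw [h]; exact (mem_R ok_r2).2 (by decide))
    exact absurd ((comm_iff ok_r1 ok_r2).1 h3) (by decide)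

/-! ### `D = O²(P)` -/

/-- the subgroup generated by the elements of odd order of `P` -/
noncomputable def DD : Subgroup (PSp 2 F3) := closure {x : PSp 2 F3 | x * z = z * x ∧ Odd (orderOf x)}

theorem mem_DD_of_three {p : PE} (hp : p.Ok) (h : ((p.mul p).mul p).beqs one = true) : p.el ∈ DD := by
  refine subset_closure ⟨z_comm hp, ?_⟩
  have h1 := eq_el ((hp.mul hp).mul hp) ok_one h
  rw [el_mul (hp.mul hp) hp, el_mul hp hp, el_one] at h1
  have h2 : p.el ^ 3 = 1 := by rw [pow_succ, pow_two]; exact h1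
  have h3 : orderOf p.el ∣ 3 := orderOf_dvd_of_pow_eq_one h2
  rcases (Nat.dvd_prime Nat.prime_three).1 h3 with e | e
  · rw [e]; exact odd_one
  · rw [e]; decide

theorem mem_DD_x {x : M2} (hx : x.det = 1) : (PE.mk x M2.one false).el ∈ DD := by
  have h := (allG_iff _ _).1 gen_check x (mem_slL hx)
  rw [anyG_iff] at h
  obtain ⟨a, ha, h⟩ := h
  rw [anyG_iff] at h
  obtain ⟨b, hb, h⟩ := h
  rw [anyG_iff] at h
  obtain ⟨c, hc, h⟩ := h
  rw [M2.beq_iff] at h
  have key : ∀ a ∈ L9, (PE.mk a M2.one false).Ok ∧ (PE.mk a M2.one false).el ∈ DD := by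
    intro a ha
    have h1 := (allG_iff _ _).1 L9_check a ha
    rw [Bool.and_eq_true, M2.beq_iff, eq3_iff] at h1
    have h2 : (PE.mk a M2.one false).Ok := ⟨h1.2, det_one⟩
    refine ⟨h2, mem_DD_of_three h2 ?_⟩
    show (PE.mk ((a.mul a).mul a) ((M2.one.mul M2.one).mul M2.one) false).beqs one = true
    rw [h1.1]
    decide
  obtain ⟨a1, a2⟩ := key a ha
  obtain ⟨b1, b2⟩ := key b hb
  obtain ⟨c1, c2⟩ := key c hc
  have e : (PE.mk x M2.one false) = ((PE.mk a M2.one false).mul (PE.mk b M2.one false)).mul (PE.mk c M2.one false) := by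
    show _ = PE.mk ((a.mul b).mul c) ((M2.one.mul M2.one).mul M2.one) false
    rw [h]
    rfl
  rw [e, el_mul (a1.mul b1) c1, el_mul a1 b1]
  exact mul_mem (mul_mem a2 b2) c2

theorem mem_DD_y {x : M2} (hx : x.det = 1) : (PE.mk M2.one x false).el ∈ DD := by
  have h := (allG_iff _ _).1 gen_check x (mem_slL hx)
  rw [anyG_iff] at h
  obtain ⟨a, ha, h⟩ := h
  rw [anyG_iff] at h
  obtain ⟨b, hb, h⟩ := h
  rw [anyG_iff] at h
  obtain ⟨c, hc, h⟩ := h
  rw [M2.beq_iff] at h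
  have key : ∀ a ∈ L9, (PE.mk M2.one a false).Ok ∧ (PE.mk M2.one a false).el ∈ DD := by
    intro a ha
    have h1 := (allG_iff _ _).1 L9_check a ha
    rw [Bool.and_eq_true, M2.beq_iff, eq3_iff] at h1
    have h2 : (PE.mk M2.one a false).Ok := ⟨det_one, h1.2⟩
    refine ⟨h2, mem_DD_of_three h2 ?_⟩
    show (PE.mk ((M2.one.mul M2.one).mul M2.one) ((a.mul a).mul a) false).beqs one = true
    rw [h1.1]
    decide
  obtain ⟨a1, a2⟩ := key a ha
  obtain ⟨b1, b2⟩ := key b hb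
  obtain ⟨c1, c2⟩ := key c hc
  have e : (PE.mk M2.one x false) = ((PE.mk M2.one a false).mul (PE.mk M2.one b false)).mul (PE.mk M2.one c false) := by
    show _ = PE.mk ((M2.one.mul M2.one).mul M2.one) ((a.mul b).mul c) false
    rw [h]
    rfl
  rw [e, el_mul (a1.mul b1) c1, el_mul a1 b1]
  exact mul_mem (mul_mem a2 b2) c2

theorem mem_DD {p : PE} (hp : p.Ok) (hs : p.s = false) : p.el ∈ DD := by
  obtain ⟨x, y, s⟩ := p
  have hs' : s = false := hs
  subst hs'
  have e : (PE.mk x y false) = (PE.mk x M2.one false).mul (PE.mk M2.one y false) := by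
    show _ = (⟨x.mul M2.one, M2.one.mul y, false⟩ : PE)
    rw [M2_mul_one, M2_one_mul]
  have hox : (PE.mk x M2.one false).Ok := ⟨hp.1, det_one⟩
  have hoy : (PE.mk M2.one y false).Ok := ⟨det_one, hp.2⟩
  rw [e, el_mul hox hoy]
  exact mul_mem (mem_DD_x hp.1) (mem_DD_y hp.2)

/-! ### The index -/

theorem card_sl : Nat.card {x : M2 // x.det = 1} = 24 := by
  have h1 : ∀ x : M2, x.det = 1 ↔ x ∈ slL.toFinset := fun x => by
    rw [List.mem_toFinset]
    exact ⟨fun h => mem_slL h, fun h => slL_det x h⟩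
  rw [Nat.card_congr (Equiv.subtypeEquivRight h1), Nat.card_eq_fintype_card, Fintype.card_coe]
  decide +kernel

/-- the preimage of `C(z)` in `Sp₄(3)` -/
noncomputable def HH : Subgroup Sp := (centralizer ({z} : Set (PSp 2 F3))).comap πh

theorem card_HH : Nat.card HH = 1152 := by
  have hOk : ∀ q : ({x : M2 // x.det = 1} × {x : M2 // x.det = 1}) × Bool, (PE.mk q.1.1 q.1.2 q.2).Ok :=
    fun q => ⟨q.1.1.2, q.1.2.2⟩
  have hmem : ∀ q, (PE.mk q.1.1 q.1.2 q.2).sp (hOk q) ∈ HH := by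
    intro q
    show π ((PE.mk q.1.1 q.1.2 q.2).sp (hOk q)) ∈ centralizer ({z} : Set (PSp 2 F3))
    rw [← el_eq (hOk q), mem_centralizer_singleton_iff]
    exact z_comm (hOk q)
  let f : ({x : M2 // x.det = 1} × {x : M2 // x.det = 1}) × Bool → HH := fun q =>
    ⟨(PE.mk q.1.1 q.1.2 q.2).sp (hOk q), hmem q⟩
  have hf : Function.Bijective f := by
    constructor
    · rintro ⟨⟨⟨x, hx⟩, ⟨y, hy⟩⟩, s⟩ ⟨⟨⟨x', hx'⟩, ⟨y', hy'⟩⟩, s'⟩ h
      have h1 : (PE.mk x y s).mat = (PE.mk x' y' s').mat := congrArg (fun w : HH => ((w : Sp) : Mat)) h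
      have h2 := mat_inj h1 ⟨hx, hy⟩ ⟨hx', hy'⟩
      obtain ⟨rfl, rfl, rfl⟩ := PE.mk.inj h2
      rfl
    · rintro ⟨g, hg⟩
      have hg' : π g * z = z * π g := mem_centralizer_singleton_iff.1 hg
      obtain ⟨p, hp, h1⟩ := exists_el hg'
      rw [el_eq hp] at h1
      rcases eq_or_of_π_eq h1 with h2 | h2
      · refine ⟨((⟨p.x, hp.1⟩, ⟨p.y, hp.2⟩), p.s), Subtype.ext (Subtype.ext ?_)⟩
        exact h2.symm
      · refine ⟨((⟨p.neg.x, hp.neg.1⟩, ⟨p.neg.y, hp.neg.2⟩), p.neg.s), Subtype.ext (Subtype.ext ?_)⟩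
        show p.neg.mat = (g : Mat)
        rw [mat_neg, h2]
        rfl
  rw [← Nat.card_congr (Equiv.ofBijective f hf), Nat.card_prod, Nat.card_prod, card_sl, Nat.card_eq_fintype_card,
    Fintype.card_bool]

theorem card_Sp : Nat.card Sp = 51840 := by
  have h := Cfsg.Agent.LieClassical.SympCount.card_symplecticGroup (F := F3) 2
  rw [Finset.prod_range_succ, Finset.prod_range_succ, Finset.prod_range_zero, Cfsg.Agent.Lib.FieldThree.F3.card] at h
  refine h.trans ?_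
  norm_num

theorem odd_index : Odd (centralizer ({z} : Set (PSp 2 F3))).index := by
  have h1 : HH.index = (centralizer ({z} : Set (PSp 2 F3))).index :=
    index_comap_of_surjective _ (QuotientGroup.mk'_surjective _)
  have h2 := HH.card_mul_index
  rw [card_HH, card_Sp] at h2
  rw [← h1]
  have h3 : HH.index = 45 := by omega
  rw [h3]
  decide

theorem base : Base z R where
  zz := z_mul_z
  z1 := z_ne
  odd := odd_index
  zR := (mem_R ok_zz).2 (by decide)
  pR := isPGroup_R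
  RP := fun _ hr => R_comm hr
  nR := fun _ hg _ hr => R_norm hg hr
  max := max_R
  cR := cent_R
  ab := ab
  oz := mem_DD ok_zz rfl

/-! ### The element `v` -/

/-- the matrix `k` -/
noncomputable def K0 : Sp := ⟨Cfsg.Agent.SmallSimple.S1000.Order25920PSp.mat
  ![![.i, .i, .o, .o], ![.m, .i, .o, .o], ![.i, .i, .m, .m], ![.m, .i, .i, .m]], by
    rw [SymplecticGroup.mem_iff]; decide +kernel⟩

theorem k_z : π K0 * z = vv.el * π K0 := by
  rw [el_vv, z, el_zz, ← π_mul, ← π_mul]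
  refine π_eq ?_
  show (K0 : Mat) * m3 = m4 * K0 ∨ (K0 : Mat) * m3 = -((m4 : Mat) * K0)
  decide +kernel

theorem k_v : π K0 * vv.el = z * π K0 := by
  rw [el_vv, z, el_zz, ← π_mul, ← π_mul]
  refine π_eq ?_
  show (K0 : Mat) * m4 = m3 * K0 ∨ (K0 : Mat) * m4 = -((m3 : Mat) * K0)
  decide +kernel

theorem ex : ∃ v k : PSp 2 F3, v * v = 1 ∧ v * z = z * v ∧ k * z * k⁻¹ = v ∧ k⁻¹ * z * k ∉ R ∧ v ∉ R ∧
    (∀ r ∈ R, v * r * (v * r) = 1 → ∃ h ∈ R, h * (v * r) * h⁻¹ = v ∨ h * (v * r) * h⁻¹ = v * z) ∧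
    (∀ g, g * z = z * g → g ∈ DD ∨ v * g ∈ DD) ∧
    ∀ p, p * z = z * p → p * p = 1 → p ∉ DD →
      ∃ h, h * z = z * h ∧ (h * p * h⁻¹ = v ∨ h * p * h⁻¹ = v * z) := by
  have vR : vv.el ∉ R := by
    rw [mem_R ok_vv]
    decide
  -- involutions with `s = true`
  have key : ∀ x y : M2, x.det = 1 → y.det = 1 → (PE.mk x y true).el * (PE.mk x y true).el = 1 →
      (PE.mk y M2.one false).el * (PE.mk x y true).el * ((PE.mk y M2.one false).el)⁻¹ = vv.el ∨
      (PE.mk y M2.one false).el * (PE.mk x y true).el * ((PE.mk y M2.one false).el)⁻¹ = vv.el * z := by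
    intro x y hx hy h
    have hp : (PE.mk x y true).Ok := ⟨hx, hy⟩
    have hh : (PE.mk y M2.one false).Ok := ⟨hy, det_one⟩
    have c := (allG_iff _ _).1 ((allG_iff _ _).1 inv_check x (mem_slL hx)) y (mem_slL hy)
    have h1 : isOne ((PE.mk x y true).mul (PE.mk x y true)) = true := by
      rw [← el_eq_one (hp.mul hp), el_mul hp hp]; exact h
    have c' : (!isOne ((PE.mk x y true).mul (PE.mk x y true)) ||
      ((cj (PE.mk y M2.one false) (PE.mk x y true)).beqs vv ||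
        (cj (PE.mk y M2.one false) (PE.mk x y true)).beqs (vv.mul zz))) = true := c
    rw [h1] at c'
    have c2 : ((cj (PE.mk y M2.one false) (PE.mk x y true)).beqs vv ||
        (cj (PE.mk y M2.one false) (PE.mk x y true)).beqs (vv.mul zz)) = true := c'
    rw [Bool.or_eq_true] at c2
    rw [← el_cj hh hp]
    rcases c2 with c3 | c3
    · left; exact eq_el (ok_cj hh hp) ok_vv c3
    · right
      rw [eq_el (ok_cj hh hp) (ok_vv.mul ok_zz) c3, el_mul ok_vv ok_zz]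
      rfl
  refine ⟨vv.el, π K0, ?_, z_comm ok_vv, ?_, ?_, vR, ?_, ?_, ?_⟩
  · rw [← el_mul ok_vv ok_vv, el_eq_one (ok_vv.mul ok_vv)]
    decide
  · rw [k_z, mul_inv_cancel_right]
  · rw [mul_assoc, ← k_v, inv_mul_cancel_left]
    exact vR
  · rintro _ ⟨p, hp, hR, rfl⟩ h
    rw [inR_iff] at hR
    obtain ⟨x, y, s⟩ := p
    obtain ⟨hx, hy, hs⟩ := hR
    have hs' : s = false := hs
    subst hs'
    have e : vv.el * (PE.mk x y false).el = (PE.mk y x true).el := by
      rw [← el_mul ok_vv hp]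
      show (PE.mk (M2.one.mul y) (M2.one.mul x) true).el = _
      rw [M2_one_mul, M2_one_mul]
    rw [e] at h ⊢
    have hx' : inQ x = true := hx
    have hh : (PE.mk x M2.one false).Ok := ⟨hp.1, det_one⟩
    refine ⟨(PE.mk x M2.one false).el, (mem_R hh).2 ?_, key y x hp.2 hp.1 h⟩
    rw [inR_iff]
    exact ⟨hx', inQ_one, rfl⟩
  · intro g hg
    obtain ⟨p, hp, rfl⟩ := exists_el hg
    cases hs : p.s
    · left; exact mem_DD hp hs
    · right
      rw [← el_mul ok_vv hp]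
      refine mem_DD (ok_vv.mul hp) ?_
      show (!p.s) = false
      rw [hs]; rfl
  · intro g hg hgg hD
    obtain ⟨p, hp, rfl⟩ := exists_el hg
    cases hs : p.s
    · exact (hD (mem_DD hp hs)).elim
    · obtain ⟨x, y, s⟩ := p
      have hs' : s = true := hs
      subst hs'
      exact ⟨(PE.mk y M2.one false).el, z_comm ⟨hp.2, det_one⟩, key x y hp.1 hp.2 hgg⟩

end PE

end Cfsg.Agent.KFacts.PSpFourThree

end
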